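import Groth.Agent.RelPicGrp.Descent
import Groth.Agent.H23.PicMul
import Mathlib.CategoryTheory.Monoidal.Cartesian.CommGrp_
import Mathlib.Algebra.Category.Grp.Basic

/-!
# The group structure of a relative Picard scheme
-/

universe u

open CategoryTheory CategoryTheory.Limits AlgebraicGeometry MonoidalCategory CartesianMonoidalCategory MonObj Opposite

noncomputable section

set_option autoImplicit false
set_option backward.isDefEq.respectTransparency false
set_option backward.isDefEq.respectTransparency.types false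

namespace Groth.Agent.RelPicGrp

open Groth.Agent.H23
open scoped Groth.Agent.H23.PicMul

variable {X S : Scheme.{u}} {f : X ⟶ S} {P : Over S} {φ : ∀ T : Over S, PicF.Cl (PicF.XT f T) → (T ⟶ P)}
  (hP : PicRel.IsRelPic f P φ)

theorem isInvertibleCl_one (Z : Scheme.{u}) : PicF.IsInvertibleCl (1 : PicF.Cl Z) :=
  ⟨_, rfl, PicLoc.isInvertible_structureModule Z⟩

theorem isInvertibleCl_pull {Z Z' : Scheme.{u}} (g : Z' ⟶ Z) {c : PicF.Cl Z} (hc : PicF.IsInvertibleCl c) :
    PicF.IsInvertibleCl (PicF.pullCl g c) := by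
  obtain ⟨L, rfl, hL⟩ := hc
  exact ⟨_, rfl, PicClLib.isInvertible_pullback g hL⟩

theorem exists_inv_cl {Z : Scheme.{u}} {c : PicF.Cl Z} (hc : PicF.IsInvertibleCl c) :
    ∃ d, PicF.IsInvertibleCl d ∧ c * d = 1 := by
  obtain ⟨L, rfl, hL⟩ := hc
  obtain ⟨D, hD, e⟩ := PicInv.exists_inverse hL
  exact ⟨PicF.cl D, ⟨D, rfl, hD⟩, (PicMul.cl_eq_iff).2 e⟩

variable (φ) in
/-- `z` is the product of `x` and `y`. -/
def IsMul {T : Over S} (x y z : T ⟶ P) : Prop :=
  ∀ (W : Over S) (g : W ⟶ T) (c d : PicF.Cl (PicF.XT f W)), PicF.IsInvertibleCl c → PicF.IsInvertibleCl d →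
    φ W c = g ≫ x → φ W d = g ≫ y → φ W (c * d) = g ≫ z

theorem IsMul.comp {T T' : Over S} {x y z : T ⟶ P} (h : IsMul φ x y z) (g : T' ⟶ T) :
    IsMul φ (g ≫ x) (g ≫ y) (g ≫ z) := fun W a c d hc hd e1 e2 => by
  rw [← Category.assoc]
  exact h W (a ≫ g) c d hc hd (e1.trans (Category.assoc _ _ _).symm) (e2.trans (Category.assoc _ _ _).symm)

theorem IsMul.symm {T : Over S} {x y z : T ⟶ P} (h : IsMul φ x y z) : IsMul φ y x z :=
  fun W a c d hc hd e1 e2 => by rw [mul_comm]; exact h W a d c hd hc e2 e1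

include hP

/-- Two morphisms to a scheme agree if they agree wherever two given points come from classes. -/
theorem ext_two {T K : Over S} {a b : T ⟶ K} (x y : T ⟶ P)
    (h : ∀ (W : Over S) (g : W ⟶ T) (c d : PicF.Cl (PicF.XT f W)), PicF.IsInvertibleCl c → PicF.IsInvertibleCl d →
      φ W c = g ≫ x → φ W d = g ≫ y → g ≫ a = g ≫ b) : a = b := by
  obtain ⟨J, U, hU, hc⟩ := hP.locallySurjective T x
  refine hom_ext_covers hU fun i => ?_
  obtain ⟨c, hc, hcx⟩ := hc i
  obtain ⟨κ, V, hV, hd⟩ := hP.locallySurjective _ (PicRel.ovrHom T (U i) ≫ y)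
  refine hom_ext_covers hV fun j => ?_
  obtain ⟨d, hd, hdy⟩ := hd j
  rw [← Category.assoc, ← Category.assoc]
  exact h _ _ _ d (isInvertibleCl_pull _ hc) hd
    (((hP.natural _ _ (PicRel.ovrHom _ (V j)) c hc).trans (congrArg (_ ≫ ·) hcx)).trans (Category.assoc _ _ _).symm)
    (hdy.trans (Category.assoc _ _ _).symm)

/-- Morphisms out of the representing scheme are determined on classes. -/
theorem hom_ext {K : Over S} {a b : P ⟶ K}
    (h : ∀ (W : Over S) (c : PicF.Cl (PicF.XT f W)), PicF.IsInvertibleCl c → φ W c ≫ a = φ W c ≫ b) : a = b :=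
  ext_two hP (𝟙 P) (𝟙 P) fun W g c d hc _ e _ => by
    rw [← (e.trans (Category.comp_id g))]
    exact h W c hc

theorem phi_mul_congr {T : Over S} {c c' d d' : PicF.Cl (PicF.XT f T)} (hc : PicF.IsInvertibleCl c)
    (hc' : PicF.IsInvertibleCl c') (hd : PicF.IsInvertibleCl d) (hd' : PicF.IsInvertibleCl d')
    (ec : φ T c = φ T c') (ed : φ T d = φ T d') : φ T (c * d) = φ T (c' * d') := by
  obtain ⟨J, U, hU, h1⟩ := hP.locallyInjective T c c' hc hc' ec
  refine hom_ext_covers hU fun i => ?_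
  let g := PicRel.ovrHom T (U i)
  rw [← hP.natural T _ g _ (PicMul.isInvertibleCl_mul hc hd), ← hP.natural T _ g _ (PicMul.isInvertibleCl_mul hc' hd'),
    PicMul.pullCl_mul, PicMul.pullCl_mul, h1 i]
  obtain ⟨κ, V, hV, h2⟩ := hP.locallyInjective _ _ _ (isInvertibleCl_pull (PicF.XTmap f g) hd)
    (isInvertibleCl_pull (PicF.XTmap f g) hd') (by rw [hP.natural T _ g _ hd, hP.natural T _ g _ hd', ed])
  refine hom_ext_covers hV fun j => ?_
  rw [← hP.natural _ _ _ _ (PicMul.isInvertibleCl_mul (isInvertibleCl_pull _ hc') (isInvertibleCl_pull _ hd)),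
    ← hP.natural _ _ _ _ (PicMul.isInvertibleCl_mul (isInvertibleCl_pull _ hc') (isInvertibleCl_pull _ hd')),
    PicMul.pullCl_mul, PicMul.pullCl_mul, h2 j]

theorem isMul_phi {T : Over S} {c d : PicF.Cl (PicF.XT f T)} (hc : PicF.IsInvertibleCl c)
    (hd : PicF.IsInvertibleCl d) : IsMul φ (φ T c) (φ T d) (φ T (c * d)) := fun W g c' d' hc' hd' e1 e2 => by
  rw [← hP.natural T W g _ (PicMul.isInvertibleCl_mul hc hd), PicMul.pullCl_mul]
  exact phi_mul_congr hP hc' (isInvertibleCl_pull _ hc) hd' (isInvertibleCl_pull _ hd)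
    (e1.trans (hP.natural T W g c hc).symm) (e2.trans (hP.natural T W g d hd).symm)

theorem isMul_unique {T : Over S} {x y z z' : T ⟶ P} (h : IsMul φ x y z) (h' : IsMul φ x y z') : z = z' :=
  ext_two hP x y fun W g c d hc hd e1 e2 => (h W g c d hc hd e1 e2).symm.trans (h' W g c d hc hd e1 e2)

theorem exists_isMul_of_cover {T : Over S} {x y : T ⟶ P} {J : Type u} {U : J → T.left.Etale} (hU : EtCoh.Covers U)
    (h : ∀ i, ∃ z, IsMul φ (PicRel.ovrHom T (U i) ≫ x) (PicRel.ovrHom T (U i) ≫ y) z) : ∃ z, IsMul φ x y z := by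
  choose z hz using h
  obtain ⟨δ, hδ⟩ := exists_glue hU z fun i j W a b hab => by
    refine isMul_unique hP ((hz i).comp a) ?_
    rw [reassoc_of% hab, reassoc_of% hab]
    exact (hz j).comp b
  refine ⟨δ, fun W g c d hc hd e1 e2 => ?_⟩
  obtain ⟨U', q, hU', hq⟩ := exists_pullback_cover g hU
  refine hom_ext_covers hU' fun i => ?_
  let r := PicRel.ovrHom W (U' i)
  rw [← reassoc_of% (hq i), hδ i, ← hP.natural W _ r _ (PicMul.isInvertibleCl_mul hc hd), PicMul.pullCl_mul]
  exact hz i _ (q i) _ _ (isInvertibleCl_pull _ hc) (isInvertibleCl_pull _ hd)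
    (by rw [hP.natural W _ r c hc, e1, reassoc_of% (hq i)])
    (by rw [hP.natural W _ r d hd, e2, reassoc_of% (hq i)])

theorem exists_isMul {T : Over S} (x y : T ⟶ P) : ∃ z, IsMul φ x y z := by
  obtain ⟨J, U, hU, hc⟩ := hP.locallySurjective T x
  refine exists_isMul_of_cover hP hU fun i => ?_
  obtain ⟨c, hc, hcx⟩ := hc i
  obtain ⟨κ, V, hV, hd⟩ := hP.locallySurjective _ (PicRel.ovrHom T (U i) ≫ y)
  refine exists_isMul_of_cover hP hV fun j => ?_
  obtain ⟨d, hd, hdy⟩ := hd j
  refine ⟨φ _ (PicF.pullCl (PicF.XTmap f (PicRel.ovrHom (PicRel.ovr T (U i)) (V j))) c * d), ?_⟩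
  rw [← hdy, ← hcx, ← hP.natural _ _ (PicRel.ovrHom _ (V j)) c hc]
  exact isMul_phi hP (isInvertibleCl_pull _ hc) hd

variable (φ) in
omit hP in
/-- The unit section. -/
def onePt (T : Over S) : T ⟶ P := φ T 1

theorem comp_onePt {T T' : Over S} (g : T' ⟶ T) : g ≫ onePt φ T = onePt φ T' := by
  show g ≫ φ T 1 = φ T' 1
  rw [← hP.natural T T' g 1 (isInvertibleCl_one _), PicMul.pullCl_one]

/-- The product of points. -/
def mulPt {T : Over S} (x y : T ⟶ P) : T ⟶ P := (exists_isMul hP x y).choose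

theorem isMul_mulPt {T : Over S} (x y : T ⟶ P) : IsMul φ x y (mulPt hP x y) := (exists_isMul hP x y).choose_spec

theorem mulPt_eq {T : Over S} {x y z : T ⟶ P} (h : IsMul φ x y z) : mulPt hP x y = z :=
  isMul_unique hP (isMul_mulPt hP x y) h

theorem comp_mulPt {T T' : Over S} (g : T' ⟶ T) (x y : T ⟶ P) :
    g ≫ mulPt hP x y = mulPt hP (g ≫ x) (g ≫ y) :=
  (mulPt_eq hP ((isMul_mulPt hP x y).comp g)).symm

theorem mulPt_phi {T : Over S} {c d : PicF.Cl (PicF.XT f T)} (hc : PicF.IsInvertibleCl c)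
    (hd : PicF.IsInvertibleCl d) : mulPt hP (φ T c) (φ T d) = φ T (c * d) :=
  mulPt_eq hP (isMul_phi hP hc hd)

theorem mulPt_one {T : Over S} (x : T ⟶ P) : mulPt hP x (onePt φ T) = x :=
  ext_two hP x x fun W g c d hc _ e _ => by
    rw [comp_mulPt, comp_onePt hP, ← e]
    exact (mulPt_phi hP hc (isInvertibleCl_one _)).trans (congrArg (φ W) (mul_one c))

theorem mulPt_comm {T : Over S} (x y : T ⟶ P) : mulPt hP x y = mulPt hP y x :=
  mulPt_eq hP (isMul_mulPt hP y x).symm

theorem mulPt_assoc {T : Over S} (x y z : T ⟶ P) :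
    mulPt hP (mulPt hP x y) z = mulPt hP x (mulPt hP y z) :=
  ext_two hP x y fun W g c d hc hd e1 e2 => by
    obtain ⟨J, U, hU, he⟩ := hP.locallySurjective W (g ≫ z)
    refine hom_ext_covers hU fun i => ?_
    obtain ⟨e, he, hez⟩ := he i
    let r := PicRel.ovrHom W (U i)
    have h1 : φ _ (PicF.pullCl (PicF.XTmap f r) c) = r ≫ g ≫ x := by rw [hP.natural _ _ _ _ hc, e1]
    have h2 : φ _ (PicF.pullCl (PicF.XTmap f r) d) = r ≫ g ≫ y := by rw [hP.natural _ _ _ _ hd, e2]
    have i1 := isInvertibleCl_pull (PicF.XTmap f r) hc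
    have i2 := isInvertibleCl_pull (PicF.XTmap f r) hd
    simp only [comp_mulPt]
    rw [← h1, ← h2, ← hez, mulPt_phi hP i1 i2, mulPt_phi hP i2 he, mulPt_phi hP (PicMul.isInvertibleCl_mul i1 i2) he,
      mulPt_phi hP i1 (PicMul.isInvertibleCl_mul i2 he), _root_.mul_assoc]

theorem exists_inv_pt {T : Over S} (x : T ⟶ P) : ∃ z, mulPt hP z x = onePt φ T := by
  have huniq : ∀ {W : Over S} {a z z' : W ⟶ P}, mulPt hP z a = onePt φ W → mulPt hP z' a = onePt φ W → z = z' :=
    fun {W a z z'} h h' => by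
      rw [← mulPt_one hP z, ← h', mulPt_comm hP z' a, ← mulPt_assoc hP, h, mulPt_comm hP, mulPt_one hP]
  obtain ⟨J, U, hU, hc⟩ := hP.locallySurjective T x
  have hloc : ∀ i, ∃ z, mulPt hP z (PicRel.ovrHom T (U i) ≫ x) = onePt φ _ := fun i => by
    obtain ⟨c, hc, hcx⟩ := hc i
    obtain ⟨d, hd, hcd⟩ := exists_inv_cl hc
    exact ⟨φ _ d, by rw [← hcx, mulPt_phi hP hd hc, mul_comm, hcd]; rfl⟩
  choose z hz using hloc
  obtain ⟨δ, hδ⟩ := exists_glue hU z fun i j W a b hab => by
    refine huniq (a := a ≫ PicRel.ovrHom T (U i) ≫ x) ?_ ?_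
    · rw [← comp_mulPt, hz i, comp_onePt hP]
    · rw [reassoc_of% hab, ← comp_mulPt, hz j, comp_onePt hP]
  exact ⟨δ, hom_ext_covers hU fun i => by rw [comp_mulPt, hδ i, hz i, comp_onePt hP]⟩

/-- The group of points. -/
@[instance_reducible]
def commGroup (T : Over S) : CommGroup (T ⟶ P) where
  mul := mulPt hP
  mul_assoc := mulPt_assoc hP
  one := onePt φ T
  one_mul x := (mulPt_comm hP _ x).trans (mulPt_one hP x)
  mul_one := mulPt_one hP
  inv x := (exists_inv_pt hP x).choose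
  inv_mul_cancel x := (exists_inv_pt hP x).choose_spec
  mul_comm := mulPt_comm hP

/-- The functor of points, valued in commutative groups. -/
def ptsFunctor : (Over S)ᵒᵖ ⥤ CommGrpCat.{u} where
  obj T := @CommGrpCat.of (unop T ⟶ P) (commGroup hP (unop T))
  map {T T'} g :=
    letI := commGroup hP (unop T)
    letI := commGroup hP (unop T')
    CommGrpCat.ofHom
      { toFun := fun x => g.unop ≫ x
        map_one' := comp_onePt hP g.unop
        map_mul' := comp_mulPt hP g.unop }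
  map_id T := ConcreteCategory.hom_ext _ _ fun (x : unop T ⟶ P) => Category.id_comp x
  map_comp {T T' T''} g g' := ConcreteCategory.hom_ext _ _ fun (x : unop T ⟶ P) => Category.assoc g'.unop g.unop x

/-- The representation of the functor of points. -/
def ptsRepresents : (ptsFunctor hP ⋙ forget _).RepresentableBy P where
  homEquiv {T} := Equiv.refl (T ⟶ P)
  homEquiv_comp _ _ := rfl

/-- The commutative group scheme structure. -/
@[instance_reducible]
def commGrpObj : CommGrpObj P := CommGrpObj.ofRepresentableBy P (ptsFunctor hP) (ptsRepresents hP)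

/-- The group scheme structure. -/
@[instance_reducible]
def grpObj : GrpObj P := (commGrpObj hP).toGrpObj

theorem one_eq (T : Over S) :
    letI := grpObj hP
    (1 : T ⟶ P) = φ T 1 := by
  letI := grpObj hP
  rw [Hom.one_def]
  show toUnit T ≫ onePt φ (𝟙_ (Over S)) = _
  exact comp_onePt hP (toUnit T)

theorem mul_eq {T : Over S} (x y : T ⟶ P) :
    letI := grpObj hP
    x * y = mulPt hP x y := by
  letI := grpObj hP
  rw [Hom.mul_def]
  show lift x y ≫ mulPt hP (fst P P) (snd P P) = _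
  rw [comp_mulPt, lift_fst, lift_snd]

theorem phi_mul {T : Over S} {c d : PicF.Cl (PicF.XT f T)} (hc : PicF.IsInvertibleCl c)
    (hd : PicF.IsInvertibleCl d) :
    letI := grpObj hP
    φ T (c * d) = φ T c * φ T d := by
  letI := grpObj hP
  rw [mul_eq hP, mulPt_phi hP hc hd]

theorem phi_pow {T : Over S} {c : PicF.Cl (PicF.XT f T)} (hc : PicF.IsInvertibleCl c) (n : ℕ) :
    letI := grpObj hP
    φ T (c ^ n) = φ T c ^ n := by
  letI := grpObj hP
  induction n with
  | zero => rw [pow_zero, pow_zero, one_eq hP]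
  | succ n ih =>
    have hn : PicF.IsInvertibleCl (c ^ n) := by
      obtain ⟨L, rfl, hL⟩ := hc
      exact ⟨_, PicMul.cl_tensorPow L n, PicMul.isInvertible_tensorPow hL n⟩
    rw [pow_succ, pow_succ, phi_mul hP hn hc, ih]

/-- The `n`-th power map is determined by its effect on classes. -/
theorem eq_pow {m : P ⟶ P} {n : ℕ}
    (hm : ∀ (T : Over S) (L : (PicF.XT f T).Modules), PicF.IsInvertible L →
      φ T (PicF.cl (CohB1.tensorPow L n)) = φ T (PicF.cl L) ≫ m) :
    letI := grpObj hP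
    m = (𝟙 P : P ⟶ P) ^ n := by
  letI := grpObj hP
  refine hom_ext hP fun W c hc => ?_
  obtain ⟨L, rfl, hL⟩ := id hc
  rw [← hm W L hL, MonObj.comp_pow, Category.comp_id, PicMul.cl_tensorPow, phi_pow hP hc]

end Groth.Agent.RelPicGrp
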