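import Groth.Agent.CurveBC.Coh
import Groth.Agent.QCoh.RpushModel
import Groth.Agent.QCoh.RpushExchange
import Groth.Agent.QCoh.DevissageP
import Groth.Agent.AssDimLoci.Ring
import Groth.Agent.AmpleVan.LiftFibre
import Groth.Agent.S2380
import Groth.Prelude.Def_ega3

/-!
# Vanishing of the cohomology of the structure sheaf on fibres
-/

universe u

open CategoryTheory CategoryTheory.Limits AlgebraicGeometry TensorProduct

noncomputable section

set_option autoImplicit false
set_option maxHeartbeats 400000
set_option backward.isDefEq.respectTransparency false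
set_option backward.isDefEq.respectTransparency.types false

namespace Groth.Agent.RelPicGrp

variable {X S : Scheme.{u}} (f : X ⟶ S)

/-- Vanishing on a fibre passes to any field-valued point over it. -/
theorem subsingleton_HH_point [QuasiCompact f] [QuasiSeparated f] {n : ℕ} {K : Type u} [Field K]
    (σ : Spec (CommRingCat.of K) ⟶ S) {s : S} (hs : σ (IsLocalRing.closedPoint K) = s)
    (h : Subsingleton (Coh.HH (pullback f (S.fromSpecResidueField s)) (Coh.structureModule _) n)) :
    Subsingleton (Coh.HH (pullback f σ) (Coh.structureModule _) n) := by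
  subst hs
  let x := σ (IsLocalRing.closedPoint K)
  let ρ : S.residueField x ⟶ CommRingCat.of K := Scheme.descResidueField (Scheme.stalkClosedPointTo σ)
  have hρ : Spec.map ρ ≫ S.fromSpecResidueField x = σ :=
    Scheme.descResidueField_stalkClosedPointTo_fromSpecResidueField K S σ
  let k : Type u := S.residueField x
  letI : Algebra k K := ρ.hom.toAlgebra
  let Y := pullback f (S.fromSpecResidueField x)
  letI : Y.Over (Spec (CommRingCat.of k)) := ⟨pullback.snd _ _⟩
  letI : (pullback f σ).Over (Spec (CommRingCat.of K)) := ⟨pullback.snd f σ⟩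
  haveI : CompactSpace Y := QuasiCompact.compactSpace_of_compactSpace (pullback.snd f (S.fromSpecResidueField x))
  haveI : QuasiSeparatedSpace Y :=
    quasiSeparatedSpace_of_quasiSeparated (pullback.snd f (S.fromSpecResidueField x))
  let g : pullback f σ ⟶ Y := pullback.lift (pullback.fst f σ) (pullback.snd f σ ≫ Spec.map ρ)
    (by rw [Category.assoc, hρ, pullback.condition])
  have hpb : IsPullback g (pullback.snd f σ) (pullback.snd f (S.fromSpecResidueField x)) (Spec.map ρ) := by
    refine IsPullback.of_right ?_ (pullback.lift_snd _ _ _) (IsPullback.of_hasPullback _ _)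
    rw [show g ≫ pullback.fst f (S.fromSpecResidueField x) = pullback.fst f σ from pullback.lift_fst _ _ _, hρ]
    exact IsPullback.of_hasPullback f σ
  haveI := PnCoh.isQCoh_structureModule Y
  obtain ⟨e⟩ := Groth.Agent.S0034.result k K Y (pullback f σ) g hpb (Coh.structureModule Y) n
  haveI : Subsingleton (Coh.HH Y (Coh.structureModule Y) n) := h
  haveI : Subsingleton (K ⊗[k] Coh.HH Y (Coh.structureModule Y) n) := subsingleton_of_forall_eq 0 fun z => by
    induction z using TensorProduct.induction_on with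
    | zero => rfl
    | tmul a b => rw [Subsingleton.elim b 0, TensorProduct.tmul_zero]
    | add a b ha hb => rw [ha, hb, add_zero]
  exact AmpleVan.subsingleton_of_iso (CurveBC.unitIso g) n (@Equiv.subsingleton _ _ e.toEquiv.symm ‹_›)

/-- Vanishing of the cohomology on fibres is open. -/
theorem exists_open_subsingleton_HH [IsProper f] [Flat f] [IsLocallyNoetherian S] (n : ℕ) (s : S)
    (h : Subsingleton (Coh.HH (pullback f (S.fromSpecResidueField s)) (Coh.structureModule _) n)) :
    ∃ U : S.Opens, s ∈ U ∧ ∀ t ∈ U,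
      Subsingleton (Coh.HH (pullback f (S.fromSpecResidueField t)) (Coh.structureModule _) n) := by
  haveI : IsLocallyNoetherian X := LocallyOfFiniteType.isLocallyNoetherian f
  let M := Coh.structureModule X
  have hM : Coh.IsCoh M := QCoh.isCoh_structureModule'
  have hfl : FlatMod.IsFlatOver f M := AssDimLoci.isFlatOver_structureModule f
  obtain ⟨_, ⟨V, hV, rfl⟩, hsV, -⟩ :=
    S.isBasis_affineOpens.exists_subset_of_mem_open (Set.mem_univ s) isOpen_univ
  have hV' : IsAffineOpen V := hV
  haveI : IsNoetherianRing Γ(S, V) := IsLocallyNoetherian.component_noetherian ⟨V, hV'⟩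
  obtain ⟨P, hP⟩ := QCoh.exists_isLocalModel hM hfl hV'
  have hopen : IsOpen (CohIII.dRank P (-(n : ℤ)) ⁻¹' Set.Iio 1) :=
    (Groth.Agent.S2380.result P (fun i => ⟨hP.1 i, QCoh.IsLocalModel.flat hP i⟩) _).isOpen_preimage 1
  have key : ∀ (t : S) (ht : t ∈ V), hV'.primeIdealOf ⟨t, ht⟩ ∈ CohIII.dRank P (-(n : ℤ)) ⁻¹' Set.Iio 1 ↔
      Subsingleton (Coh.HH (pullback f (S.fromSpecResidueField t)) (Coh.structureModule _) n) := by
    intro t ht
    haveI := (hP.2.2.2.2.2 n t ht).2
    rw [Set.mem_preimage, Set.mem_Iio, Nat.lt_one_iff, ← (hP.2.2.2.2.2 n t ht).1]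
    show Module.finrank (S.residueField t) (CohIII.fiberH f M t n) = 0 ↔ _
    rw [Module.finrank_zero_iff]
    exact ⟨AmpleVan.subsingleton_of_iso (CurveBC.unitIso (f.fiberι t)) n,
      AmpleVan.subsingleton_of_iso (CurveBC.unitIso (f.fiberι t)).symm n⟩
  refine ⟨⟨hV'.fromSpec '' (CohIII.dRank P (-(n : ℤ)) ⁻¹' Set.Iio 1),
    hV'.fromSpec.isOpenEmbedding.isOpenMap _ hopen⟩,
    ⟨hV'.primeIdealOf ⟨s, hsV⟩, (key s hsV).2 h, hV'.fromSpec_primeIdealOf ⟨s, hsV⟩⟩, ?_⟩
  rintro _ ⟨x, hx, rfl⟩
  have hz : hV'.fromSpec x ∈ V := by rw [← SetLike.mem_coe, ← hV'.range_fromSpec]; exact ⟨x, rfl⟩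
  refine (key _ hz).1 ?_
  rwa [hV'.fromSpec.isOpenEmbedding.injective (hV'.fromSpec_primeIdealOf ⟨_, hz⟩)]

end Groth.Agent.RelPicGrp
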