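import Groth.Agent.RelPicGrp.Basic
import Groth.Agent.PicH1Lib.Root
import Groth.Agent.PicTangent.Points
import Groth.Agent.AnLocal.Henselian

/-!
# Roots of points of a relative Picard scheme over strictly henselian rings
-/

universe u

open CategoryTheory CategoryTheory.Limits AlgebraicGeometry MonoidalCategory CartesianMonoidalCategory MonObj

noncomputable section

set_option autoImplicit false
set_option backward.isDefEq.respectTransparency false
set_option backward.isDefEq.respectTransparency.types false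

namespace Groth.Agent.RelPicGrp

open Groth.Agent.H23
open scoped Groth.Agent.H23.PicMul

/-- Every étale covering has a section. -/
def HasSec (Z : Scheme.{u}) : Prop :=
  ∀ (J : Type u) (U : J → Z.Etale), EtCoh.Covers U → ∃ (i : J) (v : Z ⟶ (U i).left), v ≫ (U i).hom = 𝟙 _

theorem hasSec_spec (A : Type u) [CommRing A] [HenselianLocalRing A]
    [IsSepClosed (IsLocalRing.ResidueField A)] : HasSec (Spec (CommRingCat.of A)) :=
  fun _ U hU => PicTangent.exists_section_covers A U hU

theorem HasSec.of_iso {Z Z' : Scheme.{u}} (h : HasSec Z) (e : Z ≅ Z') : HasSec Z' := fun J U hU => by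
  let U' : J → Z.Etale := fun i => (EtCoh.bc e.hom).obj (U i)
  obtain ⟨i, v, hv⟩ := h J U' (fun x => by
    obtain ⟨i, y, hy⟩ := hU (e.hom.base x)
    obtain ⟨z, -, hz⟩ := Scheme.Pullback.exists_preimage_pullback (f := (U i).hom) (g := e.hom) y x hy
    exact ⟨i, z, hz⟩)
  refine ⟨i, e.inv ≫ v ≫ pullback.fst (U i).hom e.hom, ?_⟩
  have hv' : v ≫ pullback.snd (U i).hom e.hom = 𝟙 _ := hv
  rw [Category.assoc, Category.assoc, pullback.condition, reassoc_of% hv', e.inv_hom_id]

theorem hasSec_closed (A : Type u) [CommRing A] [HenselianLocalRing A]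
    [IsSepClosed (IsLocalRing.ResidueField A)] {Z : Scheme.{u}} (g : Z ⟶ Spec (CommRingCat.of A))
    [IsClosedImmersion g] [Nonempty Z] : HasSec Z := by
  obtain ⟨I, e, he⟩ := IsClosedImmersion.Spec_iff.1 ‹IsClosedImmersion g›
  haveI : Nontrivial (A ⧸ I) := by
    have : Nonempty (PrimeSpectrum (A ⧸ I)) := ⟨e.hom (Classical.arbitrary Z)⟩
    exact PrimeSpectrum.nonempty_iff_nontrivial.1 this
  haveI : IsLocalRing (A ⧸ I) := IsLocalRing.of_surjective' _ Ideal.Quotient.mk_surjective
  haveI : HenselianLocalRing (A ⧸ I) :=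
    Groth.Agent.AnLocal.henselianLocalRing_of_surjective' (Ideal.Quotient.mk I) Ideal.Quotient.mk_surjective
  haveI : IsLocalHom (Ideal.Quotient.mk I) := Ideal.Quotient.mk_surjective.isLocalHom _
  haveI : IsSepClosed (IsLocalRing.ResidueField (A ⧸ I)) := by
    let g := IsLocalRing.ResidueField.map (Ideal.Quotient.mk I)
    have hg : Function.Bijective g := ⟨g.injective, fun z => by
      obtain ⟨z, rfl⟩ := IsLocalRing.residue_surjective z
      obtain ⟨a, rfl⟩ := Ideal.Quotient.mk_surjective z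
      exact ⟨IsLocalRing.residue A a, rfl⟩⟩
    exact .of_exists_root _ fun p hm hi hs => by
      let e := RingEquiv.ofBijective g hg
      obtain ⟨x, hx⟩ := IsSepClosed.exists_root (p.map e.symm.toRingHom)
        (by rw [Polynomial.degree_map]; exact (Polynomial.degree_pos_of_irreducible hi).ne')
        (hs.map)
      refine ⟨e x, e.symm.injective ?_⟩
      have h2 : (p.map e.symm.toRingHom).eval (e.symm (e x)) = 0 := by rw [e.symm_apply_apply]; exact hx
      rw [map_zero, ← h2]
      exact (Polynomial.eval_map_apply (f := e.symm.toRingHom) (p := p) (e x)).symm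
  exact HasSec.of_iso (hasSec_spec (A ⧸ I)) e.symm

variable {X S : Scheme.{u}} {f : X ⟶ S} {P : Over S} {φ : ∀ T : Over S, PicF.Cl (PicF.XT f T) → (T ⟶ P)}
  (hP : PicRel.IsRelPic f P φ)

include hP

theorem exists_section_lift {T : Over S} (hT : HasSec T.left) {J : Type u} {U : J → T.left.Etale}
    (hU : EtCoh.Covers U) : ∃ (i : J) (v : T ⟶ PicRel.ovr T (U i)), v ≫ PicRel.ovrHom T (U i) = 𝟙 T := by
  obtain ⟨i, v, hv⟩ := hT J U hU
  exact ⟨i, Over.homMk v (show v ≫ (U i).hom ≫ T.hom = T.hom by rw [← Category.assoc, hv, Category.id_comp]),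
    Over.OverMorphism.ext hv⟩

theorem exists_cl {T : Over S} (hT : HasSec T.left) (g : T ⟶ P) :
    ∃ c, PicF.IsInvertibleCl c ∧ φ T c = g := by
  obtain ⟨J, U, hU, hi⟩ := hP.locallySurjective T g
  obtain ⟨i, v, hv⟩ := exists_section_lift hP hT hU
  obtain ⟨c, hc, hcg⟩ := hi i
  exact ⟨_, isInvertibleCl_pull (PicF.XTmap f v) hc, by
    rw [hP.natural _ _ v c hc, hcg, ← Category.assoc, hv, Category.id_comp]⟩

theorem eq_of_phi_eq {T : Over S} (hT : HasSec T.left) {c c' : PicF.Cl (PicF.XT f T)}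
    (hc : PicF.IsInvertibleCl c) (hc' : PicF.IsInvertibleCl c') (h : φ T c = φ T c') : c = c' := by
  obtain ⟨J, U, hU, hi⟩ := hP.locallyInjective T c c' hc hc' h
  obtain ⟨i, v, hv⟩ := exists_section_lift hP hT hU
  have h1 := congrArg (PicF.pullCl (PicF.XTmap f v)) (hi i)
  rw [← PicLoc.pullCl_comp, ← PicLoc.pullCl_comp] at h1
  have h2 : PicF.XTmap f v ≫ PicF.XTmap f (PicRel.ovrHom T (U i)) = 𝟙 _ := by
    refine pullback.hom_ext ?_ ?_
    · simp [PicF.XTmap]
    · have := congrArg CommaMorphism.left hv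
      simp only [Over.comp_left, Over.id_left] at this
      simp only [PicF.XTmap, Category.assoc, pullback.lift_snd, pullback.lift_snd_assoc, Category.id_comp]
      rw [this]; exact Category.comp_id _
  rwa [h2, PicLoc.pullCl_id, PicLoc.pullCl_id] at h1

omit hP in
theorem isPullback_XTmap {T T' : Over S} (g : T' ⟶ T) :
    IsPullback (PicF.XTmap f g) (pullback.snd f T'.hom) (pullback.snd f T.hom) g.left := by
  refine IsPullback.of_right ?_ (pullback.lift_snd _ _ _) (IsPullback.of_hasPullback f T.hom)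
  rw [show PicF.XTmap f g ≫ pullback.fst f T.hom = pullback.fst f T'.hom from
    (pullback.lift_fst _ _ _).trans (Category.comp_id _), Over.w g]
  exact IsPullback.of_hasPullback f T'.hom

/-- Lifting of roots of points along a thickening of square zero. -/
theorem exists_pow_lift {T T₀ : Over S} (i : T₀ ⟶ T) [IsClosedImmersion i.left]
    (hI : i.left.ker * i.left.ker = ⊥) (hT : HasSec T.left) (hT₀ : HasSec T₀.left) (n : ℕ)
    (hn : IsUnit (n : Γ(T.left, ⊤))) (m : P ⟶ P)
    (hm : ∀ (W : Over S) (L : (PicF.XT f W).Modules), PicF.IsInvertible L →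
      φ W (PicF.cl (CohB1.tensorPow L n)) = φ W (PicF.cl L) ≫ m)
    (y : T ⟶ P) (x₀ : T₀ ⟶ P) (h : x₀ ≫ m = i ≫ y) : ∃ x : T ⟶ P, i ≫ x = x₀ ∧ x ≫ m = y := by
  let j := PicF.XTmap f i
  have hpb := isPullback_XTmap (f := f) i
  haveI : IsClosedImmersion j := MorphismProperty.of_isPullback hpb.flip ‹IsClosedImmersion i.left›
  let I := j.ker
  have hI2 : I * I = ⊥ := by
    show j.ker * j.ker = ⊥
    rw [Groth.Agent.FComplLib.ker_of_isPullback hpb, ← Groth.Agent.FComplLib.comap_mul, hI,
      Scheme.IdealSheafData.comap_bot]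
  haveI : IsIso j.toImage := inferInstance
  let e : I.subscheme ⟶ PicF.XT f T₀ := inv j.toImage
  have he : e ≫ j = I.subschemeι := by
    rw [IsIso.inv_comp_eq]
    exact j.toImage_imageι.symm
  letI := PicMul.law (PicF.XT f T)
  letI := PicMul.law I.subscheme
  letI := PicMul.law (PicF.XT f T₀)
  have hu : IsUnit (n : Γ(PicF.XT f T, ⊤)) := by
    have := hn.map (pullback.snd f T.hom).appTop.hom
    rwa [map_natCast] at this
  have hii := PicMul.pullMul I.subschemeι
  have hee := PicMul.pullMul e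
  obtain ⟨c, hc, hcy⟩ := exists_cl hP hT y
  obtain ⟨d, hd, hdx⟩ := exists_cl hP hT₀ x₀
  have hpow : ∀ {W : Over S} {b : PicF.Cl (PicF.XT f W)}, PicF.IsInvertibleCl b → φ W (b ^ n) = φ W b ≫ m := by
    intro W b hb
    obtain ⟨L, rfl, hL⟩ := hb
    rw [← PicMul.cl_tensorPow]
    exact hm W L hL
  have hdn : PicF.IsInvertibleCl (d ^ n) := by
    obtain ⟨L, rfl, hL⟩ := hd
    exact ⟨_, PicMul.cl_tensorPow L n, PicMul.isInvertible_tensorPow hL n⟩
  have hcd : PicF.pullCl j c = d ^ n := eq_of_phi_eq hP hT₀ (isInvertibleCl_pull _ hc) hdn (by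
    rw [hpow hd, hdx, h, ← hcy]
    exact hP.natural T T₀ i c hc)
  let C : PicLoc.PicSet (PicF.XT f T) := ⟨c, hc⟩
  let D : PicLoc.PicSet (PicF.XT f T₀) := ⟨d, hd⟩
  have hval : ∀ {Z : Scheme.{u}} (a : PicLoc.PicSet Z) (m' : ℕ),
      letI := PicMul.law Z
      (a ^ m').1 = a.1 ^ m' := fun {Z} a m' => by
    letI := PicMul.law Z
    obtain ⟨M, hM, rfl⟩ := PicGrp.exists_eq_cls a
    rw [PicGrp.cls_pow_val]
    exact PicMul.cl_tensorPow M m'
  have hh : PicGrp.pullHom I.subschemeι hii C = PicGrp.pullHom e hee D ^ n := by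
    rw [← map_pow]
    refine Subtype.ext ?_
    show PicF.pullCl I.subschemeι c = PicF.pullCl e (D ^ n).1
    rw [hval, ← he, PicLoc.pullCl_comp, hcd]
  obtain ⟨M, hM1, hM2⟩ := PicH1.exists_root_lift I hI2 hii n _ hu.mul_val_inv C _ hh
  refine ⟨φ T M.1, ?_, ?_⟩
  · rw [← hP.natural T T₀ i _ M.2, ← hdx]
    refine congrArg (φ T₀) ?_
    have h3 := congrArg Subtype.val hM2
    change PicF.pullCl I.subschemeι M.1 = PicF.pullCl e d at h3
    have h4 := congrArg (PicF.pullCl j.toImage) h3
    rwa [← PicLoc.pullCl_comp, ← PicLoc.pullCl_comp, show j.toImage ≫ I.subschemeι = j from j.toImage_imageι,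
      show j.toImage ≫ e = 𝟙 _ from IsIso.hom_inv_id _, PicLoc.pullCl_id] at h4
  · rw [← hpow M.2, ← hval, hM1]
    exact hcy

end Groth.Agent.RelPicGrp
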