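import Groth.Agent.RelPicGrp.H2Lift
import Groth.Agent.RelPicGrp.H2Fibre
import Groth.Agent.RelPicGrp.Lift
import Groth.Agent.SmoothCrit.Space
import Groth.Agent.GrpSchLib.FieldSmooth
import Groth.Agent.Hensel.Local
import Groth.Agent.S17906
import Groth.Agent.S2155
import Groth.Agent.S0537
import Groth.Agent.S0539
import Groth.Agent.S0540
import Mathlib.FieldTheory.PurelyInseparable.Basic

/-!
# Smoothness of a relative Picard scheme where the second cohomology of the fibre vanishes
-/

universe u

open CategoryTheory CategoryTheory.Limits AlgebraicGeometry TopologicalSpace IsLocalRing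

noncomputable section

set_option autoImplicit false
set_option maxHeartbeats 400000
set_option backward.isDefEq.respectTransparency false
set_option backward.isDefEq.respectTransparency.types false

namespace Groth.Agent.RelPicGrp

/-- Vanishing is invariant under isomorphisms of schemes over a field. -/
theorem subsingleton_HH_over_iso {K : Type u} [Field K] {Y Y' : Scheme.{u}} (q : Y ⟶ Spec (CommRingCat.of K))
    [QuasiCompact q] [QuasiSeparated q] (g : Y' ⟶ Y) [IsIso g] (n : ℕ)
    (h : Subsingleton (Coh.HH Y (Coh.structureModule Y) n)) :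
    Subsingleton (Coh.HH Y' (Coh.structureModule Y') n) := by
  letI : Y.Over (Spec (CommRingCat.of K)) := ⟨q⟩
  letI : Y'.Over (Spec (CommRingCat.of K)) := ⟨g ≫ q⟩
  haveI : CompactSpace Y := QuasiCompact.compactSpace_of_compactSpace q
  haveI : QuasiSeparatedSpace Y := quasiSeparatedSpace_of_quasiSeparated q
  have hpb : IsPullback g (Y' ↘ Spec (CommRingCat.of K)) (Y ↘ Spec (CommRingCat.of K))
      (Spec.map (CommRingCat.ofHom (algebraMap K K))) := by
    rw [Algebra.algebraMap_self, show CommRingCat.ofHom (RingHom.id K) = 𝟙 (CommRingCat.of K) from rfl, Spec.map_id]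
    exact IsPullback.of_horiz_isIso ⟨(Category.comp_id _).symm⟩
  haveI := PnCoh.isQCoh_structureModule Y
  obtain ⟨e⟩ := Groth.Agent.S0034.result K K Y Y' g hpb (Coh.structureModule Y) n
  haveI : Subsingleton (TensorProduct K K (Coh.HH Y (Coh.structureModule Y) n)) :=
    (TensorProduct.lid K _).toEquiv.subsingleton
  exact AmpleVan.subsingleton_of_iso (CurveBC.unitIso g) n e.toEquiv.symm.subsingleton

/-- Points over small extensions lift. -/
theorem exists_lift_small {X S : Scheme.{u}} {f : X ⟶ S} [IsProper f] [Flat f] {P : Over S}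
    {φ : ∀ T : Over S, PicF.Cl (PicF.XT f T) → (T ⟶ P)} (hP : PicRel.IsRelPic f P φ)
    (A : Type u) [CommRing A] [IsLocalRing A] [IsArtinianRing A] [IsSepClosed (ResidueField A)] (t : A)
    (htm : ∀ a ∈ maximalIdeal A, a * t = 0) [IsLocalRing (A ⧸ Ideal.span {t})]
    (β : Spec (CommRingCat.of A) ⟶ S) {s : S} (hs : β (closedPoint A) = s)
    (h2 : Subsingleton (Coh.HH (pullback f (S.fromSpecResidueField s)) (Coh.structureModule _) 2))
    (α : Spec (CommRingCat.of (A ⧸ Ideal.span {t})) ⟶ P.left)
    (hα : Spec.map (CommRingCat.ofHom (Ideal.Quotient.mk (Ideal.span {t}))) ≫ β = α ≫ P.hom) :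
    ∃ gam : Spec (CommRingCat.of A) ⟶ P.left,
      Spec.map (CommRingCat.ofHom (Ideal.Quotient.mk (Ideal.span {t}))) ≫ gam = α ∧ gam ≫ P.hom = β := by
  let J : Ideal A := Ideal.span {t}
  let i := Spec.map (CommRingCat.ofHom (Ideal.Quotient.mk J))
  haveI : IsClosedImmersion i := IsClosedImmersion.spec_of_surjective _ Ideal.Quotient.mk_surjective
  let T : Over S := Over.mk β
  let T₀ : Over S := Over.mk (i ≫ β)
  let j : T₀ ⟶ T := Over.homMk i rfl
  let x₀ : T₀ ⟶ P := Over.homMk α hα.symm
  have htmem : t ∈ maximalIdeal A := by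
    refine IsLocalRing.le_maximalIdeal ?_ (Ideal.subset_span (Set.mem_singleton t) : t ∈ J)
    intro h
    exact (Ideal.Quotient.nontrivial_iff.1 (inferInstance : Nontrivial (A ⧸ J))) h
  haveI : HenselianLocalRing A :=
    Hensel.henselianLocalRing_of_ringKrullDim_eq_zero A (ringKrullDimZero_iff_ringKrullDim_eq_zero.1 inferInstance)
  haveI : Nonempty T₀.left := ⟨closedPoint (A ⧸ J)⟩
  obtain ⟨c₀, hc₀, hcx⟩ := exists_cl hP (hasSec_closed A i) x₀
  rcases eq_or_ne t 0 with ht0 | ht0
  · haveI : IsIso (CommRingCat.ofHom (Ideal.Quotient.mk J)) := by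
      refine (ConcreteCategory.isIso_iff_bijective _).2
        ⟨(injective_iff_map_eq_zero _).2 fun a ha => ?_, Ideal.Quotient.mk_surjective⟩
      have h : a ∈ J := Ideal.Quotient.eq_zero_iff_mem.1 ha
      rw [show J = ⊥ from Ideal.span_singleton_eq_bot.2 ht0, Ideal.mem_bot] at h
      exact h
    exact ⟨inv i ≫ α, IsIso.hom_inv_id_assoc _ _, by rw [Category.assoc, ← hα, IsIso.inv_hom_id_assoc]⟩
  let p := pullback.snd f β
  let m : pullback p i ≅ PicF.XT f T₀ := pullbackLeftPullbackSndIso f β i
  let σ := Spec.map (CommRingCat.ofHom (residue A)) ≫ β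
  have hσ : σ (closedPoint (ResidueField A)) = s := by
    rw [← hs, Scheme.Hom.comp_apply]
    exact congrArg β (IsLocalRing.comap_closedPoint (residue A))
  have hY : Subsingleton (Coh.HH (pullback p (Spec.map (CommRingCat.ofHom (residue A))))
      (Coh.structureModule _) 2) := by
    let e := pullbackLeftPullbackSndIso f β (Spec.map (CommRingCat.ofHom (residue A)))
    have h := subsingleton_HH_point f σ hσ h2
    exact subsingleton_HH_over_iso (pullback.snd f σ) e.hom 2 h
  obtain ⟨c, hc, hcc⟩ := exists_pull_of_small A p t ht0 htm htmem hY (PicF.pullCl m.hom c₀)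
    (isInvertibleCl_pull _ hc₀)
  refine ⟨(φ T c).left, ?_, Over.w (φ T c)⟩
  have hm : m.hom ≫ PicF.XTmap f j = pullback.fst p i := by
    refine pullback.hom_ext ?_ ?_
    · rw [Category.assoc, show PicF.XTmap f j ≫ pullback.fst f T.hom = pullback.fst f T₀.hom from
        (pullback.lift_fst _ _ _).trans (Category.comp_id _)]
      exact pullbackLeftPullbackSndIso_hom_fst f β i
    · rw [Category.assoc, show PicF.XTmap f j ≫ pullback.snd f T.hom = pullback.snd f T₀.hom ≫ i from
        pullback.lift_snd _ _ _, ← Category.assoc]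
      exact ((congrArg (· ≫ i) (pullbackLeftPullbackSndIso_hom_snd f β i)).trans pullback.condition.symm)
  have h3 : PicF.pullCl (PicF.XTmap f j) c = c₀ := by
    have h4 := congrArg (PicF.pullCl m.inv) hcc
    rw [show UnitsLib.base p J = m.hom ≫ PicF.XTmap f j from hm.symm, ← PicLoc.pullCl_comp,
      ← PicLoc.pullCl_comp, Iso.inv_hom_id_assoc, Iso.inv_hom_id, PicLoc.pullCl_id] at h4
    exact h4
  have h5 := hP.natural T T₀ j c hc
  rw [h3, hcx] at h5
  exact (congrArg CommaMorphism.left h5).symm

/-- Over a strictly henselian base the scheme is smooth along the closed fibre. -/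
theorem mem_smoothLocus_of_closed (R : Type u) [CommRing R] [IsNoetherianRing R] [IsLocalRing R]
    [IsSepClosed (ResidueField R)] {X : Scheme.{u}} {f : X ⟶ Spec (CommRingCat.of R)} [IsProper f] [Flat f]
    {P : Over (Spec (CommRingCat.of R))} [LocallyOfFiniteType P.hom]
    {φ : ∀ T : Over (Spec (CommRingCat.of R)), PicF.Cl (PicF.XT f T) → (T ⟶ P)} (hP : PicRel.IsRelPic f P φ)
    (h2 : Subsingleton (Coh.HH (pullback f ((Spec (CommRingCat.of R)).fromSpecResidueField (closedPoint R)))
      (Coh.structureModule _) 2))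
    (x : P.left) (hx : P.hom x = closedPoint R) : x ∈ P.hom.smoothLocus := by
  -- a closed specialization in the closed fibre
  let g := Spec.map (CommRingCat.ofHom (residue R))
  haveI : IsClosedImmersion g := IsClosedImmersion.spec_of_surjective _ residue_surjective
  have hg : g (closedPoint (ResidueField R)) = closedPoint R := IsLocalRing.comap_closedPoint (residue R)
  haveI : JacobsonSpace ↥(Spec (CommRingCat.of (ResidueField R))) :=
    inferInstanceAs (JacobsonSpace (PrimeSpectrum (ResidueField R)))
  haveI : JacobsonSpace ↥(pullback P.hom g) := LocallyOfFiniteType.jacobsonSpace (pullback.snd P.hom g)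
  obtain ⟨x', hx', -⟩ := Scheme.Pullback.exists_preimage_pullback (f := P.hom) (g := g) x
    (closedPoint (ResidueField R)) (hx.trans hg.symm)
  obtain ⟨v, hv, hvc⟩ := nonempty_inter_closedPoints (X := ↥(pullback P.hom g)) (Z := closure {x'})
    ⟨x', subset_closure rfl⟩ isClosed_closure.isLocallyClosed
  let u := pullback.fst P.hom g v
  have hxu : x ⤳ u := hx' ▸ (specializes_iff_mem_closure.2 hv).map (pullback.fst P.hom g).continuous
  have hu : IsClosed ({u} : Set P.left) := by
    rw [← Set.image_singleton]
    exact (pullback.fst P.hom g).isClosedEmbedding.isClosedMap _ hvc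
  have hπu : P.hom u = closedPoint R := by
    show (pullback.fst P.hom g ≫ P.hom) v = _
    rw [pullback.condition, Scheme.Hom.comp_apply]
    exact (congrArg g (@Subsingleton.elim (PrimeSpectrum (ResidueField R)) _ _ (closedPoint _))).trans hg
  haveI : LocallyOfFinitePresentation P.hom := inferInstance
  refine hxu.mem_open P.hom.smoothLocus.isOpen
    (SmoothCrit.mem_smoothLocus_of_lift P.hom u fun A _ _ _ J _ t hJ htm _ ψ β hψu hψ hβ => ?_)
  haveI := SmoothCrit.isLocalHom_of_residue_surjective ψ hψ
  haveI : LocallyOfFiniteType β :=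
    SmoothCrit.locallyOfFiniteType_test P.hom (W := (⊤ : P.left.Opens)) (trivial : u ∈ (⊤ : P.left.Opens)) (by
      have h : ({⟨u, trivial⟩} : Set (⊤ : P.left.Opens)) = (Subtype.val : (⊤ : P.left.Opens) → P.left) ⁻¹' {u} := by
        ext w
        exact ⟨fun h => congrArg Subtype.val h, fun h => Subtype.ext h⟩
      exact h ▸ hu.preimage continuous_subtype_val) J ψ hψ β hβ
  have hcl : β (closedPoint A) = closedPoint R := by
    have h1 := congrArg (fun m : Spec (CommRingCat.of (A ⧸ J)) ⟶ Spec (CommRingCat.of R) => m (closedPoint (A ⧸ J))) hβ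
    simp only [Scheme.Hom.comp_apply] at h1 hψu
    rw [hψu, hπu] at h1
    haveI := IsLocalHom.of_surjective (Ideal.Quotient.mk J) Ideal.Quotient.mk_surjective
    rwa [show Spec.map (CommRingCat.ofHom (Ideal.Quotient.mk J)) (closedPoint (A ⧸ J)) = closedPoint A from
      IsLocalRing.comap_closedPoint (Ideal.Quotient.mk J)] at h1
  haveI : IsSepClosed (ResidueField A) := by
    obtain ⟨b, hb⟩ := Spec.map_surjective β
    haveI : IsLocalHom b.hom := by
      refine ((IsLocalRing.local_hom_TFAE b.hom).out 0 4).2 ?_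
      rw [← hb] at hcl
      exact congrArg PrimeSpectrum.asIdeal hcl
    haveI : IsClosedImmersion (Spec.map (CommRingCat.ofHom (residue A))) :=
      IsClosedImmersion.spec_of_surjective _ residue_surjective
    have h1 : LocallyOfFiniteType (Spec.map (CommRingCat.ofHom (residue A)) ≫ β) := inferInstance
    rw [← hb, ← Spec.map_comp, HasRingHomProperty.Spec_iff (P := @LocallyOfFiniteType)] at h1
    let ρ := ResidueField.map b.hom
    have h2' : ρ.FiniteType := RingHom.FiniteType.of_comp_finiteType (f := residue R) h1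
    letI : Algebra (ResidueField R) (ResidueField A) := ρ.toAlgebra
    haveI : Algebra.FiniteType (ResidueField R) (ResidueField A) := h2'
    haveI : Module.Finite (ResidueField R) (ResidueField A) :=
      finite_of_finite_type_of_isJacobsonRing (ResidueField R) (ResidueField A)
    haveI : Algebra.IsAlgebraic (ResidueField R) (ResidueField A) := Algebra.IsAlgebraic.of_finite _ _
    exact Algebra.IsAlgebraic.isSepClosed (F := ResidueField R)
  subst hJ
  exact exists_lift_small hP A t htm β hcl h2 _ hβ

/-- Smoothness at the points over a point where the second cohomology of the fibre vanishes. -/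
theorem mem_smoothLocus_of_h2 {X S : Scheme.{u}} [IsLocallyNoetherian S] {f : X ⟶ S} [IsProper f] [Flat f]
    {P : Over S} [LocallyOfFiniteType P.hom] {φ : ∀ T : Over S, PicF.Cl (PicF.XT f T) → (T ⟶ P)}
    (hP : PicRel.IsRelPic f P φ) (x : P.left)
    (h2 : Subsingleton (Coh.HH (pullback f (S.fromSpecResidueField (P.hom x))) (Coh.structureModule _) 2)) :
    x ∈ P.hom.smoothLocus := by
  let s := P.hom x
  obtain ⟨R, _, _, _, _, hR⟩ := Groth.Agent.S0537.result (S.presheaf.stalk s)
  haveI := Groth.Agent.S0539.result (S.presheaf.stalk s) R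
  haveI : IsNoetherianRing R := (Groth.Agent.S0540.result (S.presheaf.stalk s) R).1 inferInstance
  haveI : IsSepClosed (ResidueField R) := hR.isSepClosure.sep_closed
  let g₁ := Spec.map (CommRingCat.ofHom (algebraMap (S.presheaf.stalk s) R))
  haveI : Flat g₁ := by
    rw [HasRingHomProperty.Spec_iff (P := @Flat)]
    exact RingHom.flat_algebraMap_iff.2 inferInstance
  let g : Spec (CommRingCat.of R) ⟶ S := g₁ ≫ S.fromSpecStalk s
  have hg : g (closedPoint R) = s := by
    show (g₁ ≫ S.fromSpecStalk s) (closedPoint R) = s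
    rw [Scheme.Hom.comp_apply]
    exact (congrArg (S.fromSpecStalk s) (IsLocalRing.comap_closedPoint (algebraMap (S.presheaf.stalk s) R))).trans
      Scheme.fromSpecStalk_closedPoint
  haveI : Flat (S.fromSpecStalk s) := GrpSchLib.flat_fromSpecStalk s
  haveI : Flat g := inferInstanceAs (Flat (g₁ ≫ S.fromSpecStalk s))
  let P' : Over (Spec (CommRingCat.of R)) := Over.mk (pullback.snd P.hom g)
  haveI : LocallyOfFiniteType P'.hom := inferInstanceAs (LocallyOfFiniteType (pullback.snd P.hom g))
  obtain ⟨x', hx₁, hx₂⟩ := Scheme.Pullback.exists_preimage_pullback (f := P.hom) (g := g) x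
    (closedPoint R) hg.symm
  let r := (Spec (CommRingCat.of R)).fromSpecResidueField (closedPoint R)
  let e := pullbackLeftPullbackSndIso f g r
  have h2' : Subsingleton (Coh.HH (pullback (pullback.snd f g) r) (Coh.structureModule _) 2) := by
    refine subsingleton_HH_over_iso (pullback.snd f (r ≫ g)) e.hom 2 ?_
    refine subsingleton_HH_point f (K := (Spec (CommRingCat.of R)).residueField (closedPoint R)) (r ≫ g) ?_ h2
    rw [Scheme.Hom.comp_apply]
    exact (congrArg g ((Spec (CommRingCat.of R)).fromSpecResidueField_apply (closedPoint R) _)).trans hg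
  have hm := mem_smoothLocus_of_closed R (f := pullback.snd f g) (P := P')
    (S17906.result f g P φ hP) h2' x' hx₂
  haveI : LocallyOfFinitePresentation P.hom := inferInstance
  haveI : LocallyOfFinitePresentation (pullback.snd P.hom g) := inferInstance
  have h := Groth.Agent.S2155.result P.hom g (pullback.snd P.hom g) (pullback.fst P.hom g)
    (IsPullback.of_hasPullback P.hom g) (Or.inr inferInstance)
  rw [show (P'.hom.smoothLocus : P'.left.Opens) = pullback.fst P.hom g ⁻¹ᵁ P.hom.smoothLocus from h] at hm
  exact hx₁ ▸ hm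

/-- Smoothness over a neighbourhood. -/
theorem exists_open_smooth {X S : Scheme.{u}} [IsLocallyNoetherian S] {f : X ⟶ S} [IsProper f] [Flat f]
    {P : Over S} [LocallyOfFiniteType P.hom] {φ : ∀ T : Over S, PicF.Cl (PicF.XT f T) → (T ⟶ P)}
    (hP : PicRel.IsRelPic f P φ) (s : S)
    (h2 : Subsingleton (Coh.HH (pullback f (S.fromSpecResidueField s)) (Coh.structureModule _) 2)) :
    ∃ U : S.Opens, s ∈ U ∧ Smooth ((P.hom ⁻¹ᵁ U).ι ≫ P.hom) := by
  obtain ⟨U, hsU, hU⟩ := exists_open_subsingleton_HH f 2 s h2
  haveI : LocallyOfFinitePresentation P.hom := inferInstance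
  refine ⟨U, hsU, Scheme.Hom.smoothLocus_eq_top_iff.1 ?_⟩
  rw [← Scheme.Hom.preimage_smoothLocus_eq, eq_top_iff]
  intro z _
  exact mem_smoothLocus_of_h2 hP _ (hU _ z.2)

end Groth.Agent.RelPicGrp
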