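import Groth.Prelude.Def_PicRel2
import Mathlib.AlgebraicGeometry.Sites.Fpqc
import Mathlib.AlgebraicGeometry.Morphisms.Etale

/-!
# Descent of morphisms along étale coverings of the small site
-/

universe u

open CategoryTheory CategoryTheory.Limits AlgebraicGeometry

noncomputable section

set_option autoImplicit false
set_option backward.isDefEq.respectTransparency false
set_option backward.isDefEq.respectTransparency.types false

namespace Groth.Agent.RelPicGrp

variable {S : Scheme.{u}}

/-- The presieve of a family of étale schemes. -/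
abbrev coverPresieve {T : Scheme.{u}} {ι : Type u} (U : ι → T.Etale) : Presieve T :=
  Presieve.ofArrows (fun i => (U i).left) (fun i => (U i).hom)

theorem coverPresieve_mem {T : Scheme.{u}} {ι : Type u} {U : ι → T.Etale} (hU : EtCoh.Covers U) :
    coverPresieve U ∈ Scheme.fppfPrecoverage T := by
  refine (Scheme.ofArrows_mem_precoverage_iff _).2 ⟨fun x => ?_, fun i => ?_⟩
  · obtain ⟨i, y, hy⟩ := hU x
    exact ⟨i, y, hy⟩
  · haveI : Etale (U i).hom := (U i).prop
    exact ⟨inferInstance, inferInstance⟩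

theorem hom_ext_covers {T K : Over S} {a b : T ⟶ K} {ι : Type u} {U : ι → T.left.Etale} (hU : EtCoh.Covers U)
    (h : ∀ i, PicRel.ovrHom T (U i) ≫ a = PicRel.ovrHom T (U i) ≫ b) : a = b :=
  Over.OverMorphism.ext (((GrothendieckTopology.Subcanonical.isSheaf_of_isRepresentable
    (J := Scheme.fppfTopology) (yoneda.obj K.left)).isSheafFor _
      (Precoverage.generate_mem_toGrothendieck (coverPresieve_mem hU))).isSeparatedFor.ext fun _ v hv => by
        obtain ⟨i⟩ := hv
        exact (congrArg CommaMorphism.left (h i) : (U i).hom ≫ a.left = (U i).hom ≫ b.left))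

theorem exists_glue {T K : Over S} {ι : Type u} {U : ι → T.left.Etale} (hU : EtCoh.Covers U)
    (x : ∀ i, PicRel.ovr T (U i) ⟶ K)
    (hx : ∀ (i j : ι) (W : Over S) (a : W ⟶ PicRel.ovr T (U i)) (b : W ⟶ PicRel.ovr T (U j)),
      a ≫ PicRel.ovrHom T (U i) = b ≫ PicRel.ovrHom T (U j) → a ≫ x i = b ≫ x j) :
    ∃ δ : T ⟶ K, ∀ i, PicRel.ovrHom T (U i) ≫ δ = x i := by
  have hsh := (GrothendieckTopology.Subcanonical.isSheaf_of_isRepresentable
    (J := Scheme.fppfTopology) (yoneda.obj K.left)).isSheafFor _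
      (Precoverage.generate_mem_toGrothendieck (coverPresieve_mem hU))
  rw [Presieve.isSheafFor_arrows_iff] at hsh
  obtain ⟨z, hz, -⟩ := hsh (fun i => (x i).left) (fun i j Z gi gj hg => by
    let W : Over S := Over.mk (gi ≫ (U i).hom ≫ T.hom)
    let a : W ⟶ PicRel.ovr T (U i) := Over.homMk gi rfl
    let b : W ⟶ PicRel.ovr T (U j) := Over.homMk gj (by
      show gj ≫ (U j).hom ≫ T.hom = gi ≫ (U i).hom ≫ T.hom
      rw [reassoc_of% hg])
    exact congrArg CommaMorphism.left (hx i j W a b (Over.OverMorphism.ext hg)))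
  have hw : z ≫ K.hom = T.hom :=
    ((GrothendieckTopology.Subcanonical.isSheaf_of_isRepresentable
      (J := Scheme.fppfTopology) (yoneda.obj S)).isSheafFor _
        (Precoverage.generate_mem_toGrothendieck (coverPresieve_mem hU))).isSeparatedFor.ext fun _ v hv => by
      obtain ⟨i⟩ := hv
      show (U i).hom ≫ z ≫ K.hom = (U i).hom ≫ T.hom
      have hzi : (U i).hom ≫ z = (x i).left := hz i
      rw [reassoc_of% hzi, Over.w (x i)]
      rfl
  exact ⟨Over.homMk z hw, fun i => Over.OverMorphism.ext (hz i)⟩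

/-- A covering pulls back along a morphism. -/
theorem exists_pullback_cover {T T' : Over S} (g : T' ⟶ T) {ι : Type u} {U : ι → T.left.Etale}
    (hU : EtCoh.Covers U) :
    ∃ (U' : ι → T'.left.Etale) (q : ∀ i, PicRel.ovr T' (U' i) ⟶ PicRel.ovr T (U i)), EtCoh.Covers U' ∧
      ∀ i, q i ≫ PicRel.ovrHom T (U i) = PicRel.ovrHom T' (U' i) ≫ g := by
  refine ⟨fun i => (EtCoh.bc g.left).obj (U i), fun i => Over.homMk (pullback.fst (U i).hom g.left) ?_,
    fun x => ?_, fun i => Over.OverMorphism.ext ?_⟩
  · show pullback.fst (U i).hom g.left ≫ (U i).hom ≫ T.hom = pullback.snd (U i).hom g.left ≫ T'.hom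
    rw [pullback.condition_assoc, Over.w g]
  · obtain ⟨i, y, hy⟩ := hU (g.left.base x)
    obtain ⟨z, -, hz⟩ := Scheme.Pullback.exists_preimage_pullback (f := (U i).hom) (g := g.left) y x hy
    exact ⟨i, z, hz⟩
  · exact pullback.condition

end Groth.Agent.RelPicGrp
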