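import Groth.Agent.UnitsLib.Artin
import Groth.Agent.PicH1Lib.Seq
import Groth.Agent.PicH1Lib.Root
import Groth.Agent.H23.PicMul

/-!
# Invertible modules lift along small extensions when the second cohomology of the closed fibre vanishes
-/

universe u

open CategoryTheory CategoryTheory.Limits AlgebraicGeometry Opposite TopologicalSpace

noncomputable section

set_option autoImplicit false
set_option maxHeartbeats 400000
set_option synthInstance.maxHeartbeats 100000
set_option backward.isDefEq.respectTransparency false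
set_option backward.isDefEq.respectTransparency.types false

namespace Groth.Agent.RelPicGrp

theorem exists_pull_of_small (A : Type u) [CommRing A] [IsLocalRing A] {Y : Scheme.{u}}
    (p : Y ⟶ Spec (CommRingCat.of A)) [Flat p] (t : A) (ht0 : t ≠ 0)
    (htm : ∀ x ∈ IsLocalRing.maximalIdeal A, x * t = 0) (htmem : t ∈ IsLocalRing.maximalIdeal A)
    (h2 : Subsingleton (Coh.HH (pullback p (Spec.map (CommRingCat.ofHom (IsLocalRing.residue A))))
      (Coh.structureModule _) 2))
    (c₀ : PicF.Cl (pullback p (Spec.map (CommRingCat.ofHom (Ideal.Quotient.mk (Ideal.span {t}))))))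
    (hc₀ : PicF.IsInvertibleCl c₀) :
    ∃ c, PicF.IsInvertibleCl c ∧ PicF.pullCl (UnitsLib.base p (Ideal.span {t})) c = c₀ := by
  let J : Ideal A := Ideal.span {t}
  let g := Spec.map (CommRingCat.ofHom (Ideal.Quotient.mk J))
  haveI : IsClosedImmersion g := IsClosedImmersion.spec_of_surjective _ Ideal.Quotient.mk_surjective
  let j := UnitsLib.base p J
  let I := j.ker
  have ht2 : t * t = 0 := htm t htmem
  have hJ : J * J = ⊥ := by
    rw [Ideal.span_singleton_mul_span_singleton, ht2, Ideal.span_singleton_eq_bot.2 rfl]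
  have hI : I * I = ⊥ := by
    show (pullback.fst p g).ker * (pullback.fst p g).ker = ⊥
    rw [Scheme.IdealSheafData.ker_fst_of_isClosedImmersion, ← FComplLib.comap_mul,
      PicH1.ker_Spec_mk_sq A J hJ, Scheme.IdealSheafData.comap_bot]
  haveI : IsIso j.toImage := inferInstance
  let e : I.subscheme ⟶ pullback p g := inv j.toImage
  have he : e ≫ j = I.subschemeι := by
    rw [IsIso.inv_comp_eq]
    exact j.toImage_imageι.symm
  have hker : ∀ V : Y.Opens, IsAffineOpen V → ∀ x, I.subschemeι.app V x = 0 ↔ j.app V x = 0 := by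
    intro V hV x
    have h1 : RingHom.ker (I.subschemeι.app V).hom = RingHom.ker (j.app V).hom :=
      (FComplLib.ideal_ker I.subschemeι ⟨V, hV⟩).symm.trans
        ((congrArg (fun K : Y.IdealSheafData => K.ideal ⟨V, hV⟩) (Scheme.IdealSheafData.ker_subschemeι I)).trans
          (FComplLib.ideal_ker j ⟨V, hV⟩))
    exact (RingHom.mem_ker (f := (I.subschemeι.app V).hom)).symm.trans (h1 ▸ RingHom.mem_ker)
  have hres : Function.Surjective (CommRingCat.ofHom (IsLocalRing.residue A)).hom :=
    IsLocalRing.residue_surjective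
  have hstep := UnitsLib.Step.congr_left (UnitsLib.step_of_ideals p (CommRingCat.ofHom (IsLocalRing.residue A))
    hres J ⊥ t (bot_sup_eq J).symm
    (fun x hx => ⟨2, by rw [pow_two]; exact Ideal.mem_bot.1 (hJ ▸ Ideal.mul_mem_mul hx hx)⟩) hJ.le
    (fun x => by
      rw [Ideal.mem_bot]
      refine ⟨fun h => (IsLocalRing.residue_eq_zero_iff x).2 ?_,
        fun h => htm x ((IsLocalRing.residue_eq_zero_iff x).1 h)⟩
      by_contra hu
      obtain ⟨u, rfl⟩ := IsLocalRing.notMem_maximalIdeal.1 hu
      exact ht0 (by simpa using h))) (ia' := I.subschemeι) hker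
  have := UnitsLib.isClosedImmersion_fst p (CommRingCat.ofHom (IsLocalRing.residue A)) hres
  have hKu : Subsingleton (CohTop.H (UnitsLib.Ku I.subschemeι) 2) :=
    UnitsLib.subsingleton_H_ku hstep 2
      (UnitsLib.H_subsingleton_of_isZero (UnitsLib.isZero_ku _ (UnitsLib.base_bot_injective p)) 2) h2
  -- the first term of the units sequence
  let S := PicH1.unitsSeq I hI
  have hS : S.ShortExact := PicH1.unitsSeq_shortExact I hI
  haveI := hS.mono_f
  have : Balanced (CohTop.Ab Y.toTopCat) := inferInstance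
  let eKu : S.X₁ ≅ UnitsLib.Ku I.subschemeι :=
    IsLimit.conePointUniqueUpToIso hS.exact.fIsKernel (limit.isLimit (parallelPair S.g 0))
  haveI : Subsingleton (Coh.HH Y (ClSub.idealMod I) 2) :=
    @Function.Injective.subsingleton _ _ _ (UnitsLib.Hiso eKu 2).injective hKu
  letI := H23.PicMul.law Y
  letI := H23.PicMul.law I.subscheme
  have hi := H23.PicMul.pullMul I.subschemeι
  obtain ⟨ε, δ₀, α, δ₁, -, -, -, -, -, hδ⟩ := PicH1.exists_exact I hI hi
  obtain ⟨m, hm⟩ := hδ.le (x := (⟨PicF.pullCl e c₀, PicLoc.isInvertibleCl_pullCl e hc₀⟩ : PicLoc.PicSet I.subscheme))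
    (MonoidHom.mem_ker.2 (Multiplicative.toAdd.injective (Subsingleton.elim _ _)))
  refine ⟨m.1, m.2, ?_⟩
  have h3 : PicF.pullCl I.subschemeι m.1 = PicF.pullCl e c₀ := congrArg Subtype.val hm
  have h4 := congrArg (PicF.pullCl j.toImage) h3
  rwa [← PicLoc.pullCl_comp, ← PicLoc.pullCl_comp, show j.toImage ≫ I.subschemeι = j from j.toImage_imageι,
    show j.toImage ≫ e = 𝟙 _ from IsIso.hom_inv_id _, PicLoc.pullCl_id] at h4

end Groth.Agent.RelPicGrp
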