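import Groth.Agent.RelPicGrp.Lift
import Groth.Agent.H23.MulEtale
import Groth.Agent.FpqcDescLib.Basic
import Groth.Agent.S1417
import Groth.Agent.S0537
import Groth.Agent.S0539

/-!
# The power maps of a relative Picard scheme are étale where the exponent is invertible
-/

universe u

open CategoryTheory CategoryTheory.Limits AlgebraicGeometry MonoidalCategory CartesianMonoidalCategory MonObj TopologicalSpace

noncomputable section

set_option autoImplicit false
set_option maxHeartbeats 400000
set_option backward.isDefEq.respectTransparency false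
set_option backward.isDefEq.respectTransparency.types false

namespace Groth.Agent.RelPicGrp

section Fibres

variable {S : Scheme.{u}} {X : Over S} [GrpObj X] [IsCommMonObj X] [LocallyOfFiniteType X.hom]

theorem formallyUnramified_fibre (n : ℕ) (y : X.left) (hn : (n : X.left.residueField y) ≠ 0) :
    FormallyUnramified ((𝟙 X ^ n : X ⟶ X).left.fiberToSpecResidueField y) := by
  let L := AlgebraicClosure (X.left.residueField y)
  let g : Spec (CommRingCat.of L) ⟶ Spec (X.left.residueField y) :=
    Spec.map (CommRingCat.ofHom (algebraMap (X.left.residueField y) L))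
  let r := X.left.fromSpecResidueField y
  let q := g ≫ r
  let σ := q ≫ X.hom
  let Xk := (Over.pullback σ).obj X
  letI : GrpObj Xk := Functor.grpObjObj
  haveI : IsCommMonObj Xk := inferInstance
  have : LocallyOfFiniteType Xk.hom := inferInstanceAs (LocallyOfFiniteType (pullback.snd X.hom σ))
  have hnL : (n : L) ≠ 0 := fun h => hn (by
    apply (algebraMap (X.left.residueField y) L).injective
    rw [map_natCast, h, map_zero])
  set f := (𝟙 X ^ n : X ⟶ X).left
  let fL := ((Over.pullback σ).map (𝟙 X ^ n)).left
  have hfL : FormallyUnramified fL := by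
    show FormallyUnramified ((Over.pullback σ).map (𝟙 X ^ n)).left
    rw [H23.MulEtale.map_pow σ n]
    exact H23.MulTangent.formallyUnramified_pow Xk n hnL
  let qk : Spec (CommRingCat.of L) ⟶ pullback X.hom σ := pullback.lift q (𝟙 _) (Category.id_comp _).symm
  have hqk : qk ≫ pullback.fst X.hom σ = q := pullback.lift_fst _ _ _
  have h1 : IsPullback (pullback.fst fL qk ≫ pullback.fst X.hom σ) (pullback.snd fL qk) f q := by
    have := (IsPullback.of_hasPullback fL qk).paste_horiz (H23.MulEtale.isPullback_map σ (𝟙 X ^ n))
    rwa [hqk] at this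
  have h2 : FormallyUnramified (pullback.snd f q) := by
    have h := MorphismProperty.pullback_snd (P := @FormallyUnramified) fL qk hfL
    rw [← h1.isoPullback_hom_snd] at h
    exact (MorphismProperty.cancel_left_of_respectsIso @FormallyUnramified _ _).1 h
  have h3 : FormallyUnramified (pullback.snd (pullback.snd f r) g) := by
    have e := pullbackLeftPullbackSndIso_hom_snd f r g
    rw [← e]
    exact (MorphismProperty.cancel_left_of_respectsIso @FormallyUnramified _ _).2 h2
  have : Surjective g := ⟨fun p => ⟨IsLocalRing.closedPoint L, @Subsingleton.elim (PrimeSpectrum (X.left.residueField y)) _ _ _⟩⟩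
  have : Flat g := by
    rw [HasRingHomProperty.Spec_iff (P := @Flat)]
    show (algebraMap (X.left.residueField y) L).Flat
    rw [RingHom.flat_algebraMap_iff]
    infer_instance
  exact MorphismProperty.of_pullback_snd_of_descendsAlong (Q := @Surjective ⊓ @Flat ⊓ @QuasiCompact)
    (g := g) ⟨⟨inferInstance, inferInstance⟩, inferInstance⟩ h3

theorem formallyUnramified_pow_basicOpen (n : ℕ) :
    FormallyUnramified ((X.left.basicOpen (n : Γ(X.left, ⊤))).ι ≫ (𝟙 X ^ n : X ⟶ X).left) := by
  set m := (𝟙 X ^ n : X ⟶ X).left
  set U := X.left.basicOpen (n : Γ(X.left, ⊤))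
  have : LocallyOfFiniteType m := by
    have : LocallyOfFiniteType (m ≫ X.hom) := by rw [Over.w]; infer_instance
    exact locallyOfFiniteType_of_comp _ X.hom
  refine GrpSchLib.formallyUnramified_of_fibres _ fun y => ?_
  let r := X.left.fromSpecResidueField y
  show FormallyUnramified (pullback.snd (U.ι ≫ m) r)
  let e := pullbackRightPullbackFstIso m r U.ι
  rw [← e.inv_hom_id_assoc (pullback.snd (U.ι ≫ m) r)]
  by_cases hn : (n : X.left.residueField y) = 0
  · haveI : IsEmpty ↥(pullback (U.ι ≫ m) r) := ⟨fun z => by
      have h1 : (pullback.fst (U.ι ≫ m) r ≫ U.ι ≫ m) z = y := by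
        rw [pullback.condition, Scheme.Hom.comp_apply]
        exact X.left.fromSpecResidueField_apply y _
      have h2 : (U.ι ≫ m) (pullback.fst (U.ι ≫ m) r z) ∈ U := by
        rw [Scheme.Hom.comp_apply]
        have h3 : U.ι (pullback.fst (U.ι ≫ m) r z) ∈ m ⁻¹ᵁ U := by
          rw [show m ⁻¹ᵁ U = U from (Scheme.preimage_basicOpen_top m _).trans (by rw [map_natCast])]
          exact (pullback.fst (U.ι ≫ m) r z).2
        exact h3
      rw [← Scheme.Hom.comp_apply, h1] at h2
      exact (Scheme.evaluation_ne_zero_iff_mem_basicOpen X.left (U := ⊤) y trivial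
        (n : Γ(X.left, ⊤))).2 h2 (by rw [map_natCast]; exact hn)⟩
    rw [e.inv_hom_id_assoc]
    exact inferInstance
  · haveI := formallyUnramified_fibre n y hn
    haveI : FormallyUnramified (pullback.snd m r) := this
    rw [pullbackRightPullbackFstIso_hom_snd]
    exact MorphismProperty.comp_mem _ _ _ inferInstance (MorphismProperty.comp_mem _ _ _ inferInstance this)

end Fibres

section Main

variable {X S : Scheme.{u}} {f : X ⟶ S} {P : Over S} {φ : ∀ T : Over S, PicF.Cl (PicF.XT f T) → (T ⟶ P)}
  (hP : PicRel.IsRelPic f P φ) [LocallyOfFiniteType P.hom] [IsLocallyNoetherian S]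

include hP

theorem etale_pow_basicOpen (n : ℕ) (m : P ⟶ P)
    (hm : ∀ (W : Over S) (L : (PicF.XT f W).Modules), PicF.IsInvertible L →
      φ W (PicF.cl (CohB1.tensorPow L n)) = φ W (PicF.cl L) ≫ m) :
    Etale ((P.left.basicOpen (n : Γ(P.left, ⊤))).ι ≫ m.left) := by
  letI := grpObj hP
  haveI : IsCommMonObj P := (commGrpObj hP).toIsCommMonObj
  haveI : IsLocallyNoetherian P.left := LocallyOfFiniteType.isLocallyNoetherian P.hom
  set U := P.left.basicOpen (n : Γ(P.left, ⊤))
  set g := U.ι ≫ m.left
  haveI : LocallyOfFiniteType m.left := by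
    have : LocallyOfFiniteType (m.left ≫ P.hom) := by rw [Over.w]; infer_instance
    exact locallyOfFiniteType_of_comp _ P.hom
  haveI hunr : FormallyUnramified g := by
    show FormallyUnramified (U.ι ≫ m.left)
    rw [eq_pow hP hm]
    exact formallyUnramified_pow_basicOpen n
  haveI hsm : Smooth g := by
    refine (Groth.Agent.S1417.result g).2 fun B B' _ _ _ _ _ _ θ ε hθ hker hε α β _ hw => ?_
    let i := Spec.map (CommRingCat.ofHom θ)
    haveI : IsClosedImmersion i := IsClosedImmersion.spec_of_surjective _ hθ
    have hεm : ε ∈ IsLocalRing.maximalIdeal B' := by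
      refine IsLocalRing.le_maximalIdeal (RingHom.ker_ne_top θ) ?_
      rw [hker]
      exact Ideal.mem_span_singleton_self ε
    have hI : i.ker * i.ker = ⊥ := by
      have hJ : RingHom.ker θ * RingHom.ker θ = ⊥ := by
        rw [hker, Ideal.span_singleton_mul_span_singleton, hε ε hεm, Ideal.span_singleton_eq_bot.2 rfl]
      have he : i.ker = (Spec.map (CommRingCat.ofHom (Ideal.Quotient.mk (RingHom.ker θ)))).ker := by
        have : CommRingCat.ofHom θ = CommRingCat.ofHom (Ideal.Quotient.mk (RingHom.ker θ)) ≫
            (RingHom.quotientKerEquivOfSurjective hθ).toCommRingCatIso.hom := by ext x; rfl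
        show (Spec.map (CommRingCat.ofHom θ)).ker = _
        rw [this, Spec.map_comp, Scheme.Hom.ker_comp_of_isIso]
      rw [he]
      exact PicH1.ker_Spec_mk_sq B' _ hJ
    -- the strictly henselian cover
    obtain ⟨A, _, _, _, _, hA⟩ := Groth.Agent.S0537.result B'
    haveI := Groth.Agent.S0539.result B' A
    haveI : HenselianLocalRing A := hA.henselian
    haveI : IsSepClosed (IsLocalRing.ResidueField A) := hA.isSepClosure.sep_closed
    let p := Spec.map (CommRingCat.ofHom (algebraMap B' A))
    haveI : Flat p := by
      rw [HasRingHomProperty.Spec_iff (P := @Flat)]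
      exact RingHom.flat_algebraMap_iff.2 inferInstance
    haveI : Surjective p := ⟨PrimeSpectrum.comap_surjective_of_faithfullyFlat⟩
    haveI : Surjective i := by
      refine ⟨fun q => ?_⟩
      haveI : Subsingleton (Spec (CommRingCat.of B')) := inferInstanceAs (Subsingleton (PrimeSpectrum B'))
      exact ⟨IsLocalRing.closedPoint B, Subsingleton.elim _ _⟩
    let T : Over S := Over.mk (p ≫ β ≫ P.hom)
    let T₀ : Over S := Over.mk (pullback.fst p i ≫ p ≫ β ≫ P.hom)
    let j : T₀ ⟶ T := Over.homMk (pullback.fst p i) rfl
    haveI : IsClosedImmersion j.left := inferInstanceAs (IsClosedImmersion (pullback.fst p i))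
    have hj : j.left.ker * j.left.ker = ⊥ := by
      show (pullback.fst p i).ker * (pullback.fst p i).ker = ⊥
      rw [Scheme.IdealSheafData.ker_fst_of_isClosedImmersion, ← FComplLib.comap_mul, hI,
        Scheme.IdealSheafData.comap_bot]
    haveI : Surjective (pullback.fst p i) :=
      MorphismProperty.pullback_fst (P := @Surjective) p i inferInstance
    haveI : Nonempty T₀.left := by
      obtain ⟨z, -⟩ := (pullback.fst p i).surjective (IsLocalRing.closedPoint A)
      exact ⟨z⟩
    let y : T ⟶ P := Over.homMk (p ≫ β) (Category.assoc _ _ _)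
    let x₀ : T₀ ⟶ P := Over.homMk (pullback.snd p i ≫ α ≫ U.ι) (by
      show (pullback.snd p i ≫ α ≫ U.ι) ≫ P.hom = pullback.fst p i ≫ p ≫ β ≫ P.hom
      rw [pullback.condition_assoc, ← Over.w m, Category.assoc, Category.assoc]
      show pullback.snd p i ≫ α ≫ g ≫ P.hom = _
      rw [← Category.assoc α g, ← hw, Category.assoc, Over.w m])
    have hn : IsUnit (n : Γ(T.left, ⊤)) := by
      rw [show (n : Γ(T.left, ⊤)) = (p ≫ β).appTop (n : Γ(P.left, ⊤)) from (map_natCast (p ≫ β).appTop.hom n).symm]
      refine T.left.toRingedSpace.isUnit_of_isUnit_germ ⊤ _ fun t _ => ?_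
      refine (Scheme.mem_basicOpen T.left (U := ⊤) _ t trivial).1 ?_
      rw [show T.left.basicOpen ((p ≫ β).appTop (n : Γ(P.left, ⊤))) = (p ≫ β) ⁻¹ᵁ U from
        (Scheme.preimage_basicOpen_top (p ≫ β) _).symm]
      obtain ⟨t₀, rfl⟩ := (pullback.fst p i).surjective t
      show (pullback.fst p i ≫ p ≫ β) t₀ ∈ U
      rw [pullback.condition_assoc, hw, ← Category.assoc, ← Category.assoc]
      show m.left ((pullback.snd p i ≫ α ≫ U.ι) t₀) ∈ U
      have h3 : (pullback.snd p i ≫ α ≫ U.ι) t₀ ∈ m.left ⁻¹ᵁ U := by
        rw [show m.left ⁻¹ᵁ U = U from (Scheme.preimage_basicOpen_top m.left _).trans (by rw [map_natCast])]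
        exact ((pullback.snd p i ≫ α) t₀).2
      exact h3
    obtain ⟨x, hx₀, hxm⟩ := exists_pow_lift hP j hj (hasSec_spec A)
      (hasSec_closed A (pullback.fst p i)) n hn m hm y x₀ (Over.OverMorphism.ext (by
        show (pullback.snd p i ≫ α ≫ U.ι) ≫ m.left = pullback.fst p i ≫ p ≫ β
        rw [pullback.condition_assoc, hw]
        simp [g]))
    -- the lift lands in the open set
    have hxU : Set.range x.left ⊆ Set.range U.ι := by
      rintro _ ⟨t, rfl⟩
      rw [Scheme.Opens.range_ι]
      have h1 : (⊤ : T.left.Opens) ≤ T.left.basicOpen (n : Γ(T.left, ⊤)) := by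
        rw [Scheme.basicOpen_of_isUnit _ hn]
      have h2 : x.left ⁻¹ᵁ U = T.left.basicOpen (n : Γ(T.left, ⊤)) :=
        (Scheme.preimage_basicOpen_top x.left _).trans (by rw [map_natCast])
      exact h2.ge (h1 (trivial : t ∈ (⊤ : T.left.Opens)))
    let u := IsOpenImmersion.lift U.ι x.left hxU
    have hu : u ≫ U.ι = x.left := IsOpenImmersion.lift_fac _ _ _
    have hug : u ≫ g = p ≫ β := by
      show u ≫ U.ι ≫ m.left = p ≫ β
      rw [reassoc_of% hu]
      exact congrArg CommaMorphism.left hxm
    have huj : pullback.fst p i ≫ u = pullback.snd p i ≫ α := by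
      rw [← cancel_mono U.ι, Category.assoc, hu, Category.assoc]
      exact congrArg CommaMorphism.left hx₀
    -- descent
    obtain ⟨gam, hgam, -⟩ := (FpqcDescLib.covers_of_isCovering (FpqcDescLib.isCovering_of_quasiCompact p)).desc u
      (fun W a b hab => by
        let v := pullback.fst (a ≫ p) i
        haveI : IsClosedImmersion v := inferInstance
        have hv : IsNilpotent v.ker := ⟨2, by
          rw [pow_two, Scheme.IdealSheafData.ker_fst_of_isClosedImmersion, ← FComplLib.comap_mul, hI,
            Scheme.IdealSheafData.comap_bot]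
          rfl⟩
        refine FormallyUnramified.hom_ext v hv g ?_ (by rw [Category.assoc, Category.assoc, hug, reassoc_of% hab])
        have key : ∀ c : W ⟶ Spec (CommRingCat.of A), c ≫ p = a ≫ p → v ≫ c ≫ u = pullback.snd (a ≫ p) i ≫ α :=
          fun c hc => by
            let w : pullback (a ≫ p) i ⟶ pullback p i := pullback.lift (v ≫ c) (pullback.snd (a ≫ p) i)
              (by rw [Category.assoc, hc, pullback.condition])
            rw [← Category.assoc v c u, ← show w ≫ pullback.fst p i = v ≫ c from pullback.lift_fst _ _ _,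
              Category.assoc, huj, ← Category.assoc, pullback.lift_snd]
        rw [key a rfl, key b hab.symm])
    haveI : Epi p := (FpqcDescLib.covers_of_isCovering (FpqcDescLib.isCovering_of_quasiCompact p)).epi
    refine ⟨gam, ?_, ?_⟩
    · haveI : Flat (pullback.snd p i) := inferInstance
      haveI : Surjective (pullback.snd p i) :=
        MorphismProperty.pullback_snd (P := @Surjective) p i inferInstance
      haveI : Epi (pullback.snd p i) :=
        (FpqcDescLib.covers_of_isCovering (FpqcDescLib.isCovering_of_quasiCompact (pullback.snd p i))).epi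
      rw [← cancel_epi (pullback.snd p i), ← huj, ← hgam, ← Category.assoc, ← pullback.condition, Category.assoc]
    · rw [← cancel_epi p, reassoc_of% hgam, hug]
  exact Etale.iff_flat_and_formallyUnramified.2
    ⟨inferInstance, hunr, inferInstance⟩

end Main

end Groth.Agent.RelPicGrp
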